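import Cfsg.Agent.OrdDiv.Table
import Cfsg.Agent.H902.Shape
import Cfsg.Agent.H284.SepOrd

/-!
# The orders of the exceptional models in the form `Art.Real` (helper894)
-/

set_option autoImplicit false

namespace Cfsg.Agent.H894.EK

open Cfsg Cfsg.Lie Cfsg.Agent.OrdDiv Cfsg.Agent.H902

theorem card_pow (F : Type) [Field F] [Fintype F] (p : ℕ) [Fact p.Prime] [CharP F p] :
    ∃ n : ℕ, 1 ≤ n ∧ Fintype.card F = p ^ n := by
  obtain ⟨n, -, h⟩ := FiniteField.card F p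
  exact ⟨n, n.2, h⟩

variable (p : ℕ) [hp : Fact p.Prime]

section chev

variable (F : Type) [Field F] [Fintype F] [CharP F p]

theorem real_g2 (h3 : 3 ≤ Fintype.card F) :
    ∃ f, Fintype.card F = p ^ f ∧ Art.Real .G2 p f (Nat.card ↥(chevG2.group F)) := by
  obtain ⟨f, hf, hF⟩ := card_pow F p
  refine ⟨f, hF, ⟨hp.out, hf, by rw [hF] at h3; exact h3, ?_⟩⟩
  rw [(table.{0}).g2 F, hF]
  change 1 * _ = (p ^ f) ^ 6 * (_ * _)
  ring

theorem real_f4 : ∃ f, Fintype.card F = p ^ f ∧ Art.Real .F4 p f (Nat.card ↥(chevF4.group F)) := by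
  obtain ⟨f, hf, hF⟩ := card_pow F p
  refine ⟨f, hF, ⟨hp.out, hf, trivial, ?_⟩⟩
  rw [(table.{0}).f4 F _ hF]
  change 1 * _ = (p ^ f) ^ 24 * (_ * _ * _ * _)
  ring

theorem real_e6 : ∃ f, Fintype.card F = p ^ f ∧ Art.Real .E6 p f (Nat.card ↥(chevE6.group F)) := by
  obtain ⟨f, hf, hF⟩ := card_pow F p
  refine ⟨f, hF, ⟨hp.out, hf, trivial, ?_⟩⟩
  change Nat.gcd 3 (p ^ f - 1) * _ = (p ^ f) ^ 36 * (_ * _ * _ * _ * _ * _)
  rw [(table.{0}).e6 F _ hF]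
  ring

theorem real_e7 : ∃ f, Fintype.card F = p ^ f ∧ Art.Real .E7 p f (Nat.card ↥(chevE7.group F)) := by
  obtain ⟨f, hf, hF⟩ := card_pow F p
  refine ⟨f, hF, ⟨hp.out, hf, trivial, ?_⟩⟩
  change Nat.gcd 2 (p ^ f - 1) * _ = (p ^ f) ^ 63 * (_ * _ * _ * _ * _ * _ * _)
  rw [(table.{0}).e7 F _ hF]
  ring

theorem real_e8 : ∃ f, Fintype.card F = p ^ f ∧ Art.Real .E8 p f (Nat.card ↥(chevE8.group F)) := by
  obtain ⟨f, hf, hF⟩ := card_pow F p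
  refine ⟨f, hF, ⟨hp.out, hf, trivial, ?_⟩⟩
  rw [(table.{0}).e8 F _ hF]
  change 1 * _ = (p ^ f) ^ 120 * (_ * _ * _ * _ * _ * _ * _ * _)
  ring

end chev

section twisted

variable (K : Type) [Field K] [Fintype K] [CharP K p] {q : ℕ}

theorem real_te6 (hK : Fintype.card K = q ^ 2) :
    ∃ f, q = p ^ f ∧ Art.Real .TE6 p f (Nat.card ↥(twistedE6 K q)) := by
  obtain ⟨f, hf, rfl⟩ := H284.SepOrd.root_pow hp.out (by norm_num) (card_pow K p) hK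
  refine ⟨f, rfl, ⟨hp.out, hf, trivial, ?_⟩⟩
  change Nat.gcd 3 (p ^ f + 1) * _ = (p ^ f) ^ 36 * (_ * _ * _ * _ * _ * _)
  rw [(table.{0}).te6 K _ (hp.out.isPrimePow.pow (by omega)) hK]
  ring

theorem real_td4 (hK : Fintype.card K = q ^ 3) :
    ∃ f, q = p ^ f ∧ Art.Real .TD4 p f (Nat.card ↥(twistedD4 K q)) := by
  obtain ⟨f, hf, rfl⟩ := H284.SepOrd.root_pow hp.out (by norm_num) (card_pow K p) hK
  refine ⟨f, rfl, ⟨hp.out, hf, trivial, ?_⟩⟩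
  rw [(table.{0}).td4 K _ (hp.out.isPrimePow.pow (by omega)) hK]
  change 1 * _ = (p ^ f) ^ 12 * (_ * _ * _)
  ring

end twisted

end Cfsg.Agent.H894.EK
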