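import Cfsg.Agent.H894.EK.Spor
import Cfsg.Agent.H876.EK.Mon
import Cfsg.Agent.H876.EK.Ly

/-!
# S5745, CrossK: the Monster and Lyons' group, `k ≥ 7` (helper894, from helper876)
-/

set_option autoImplicit false

namespace Cfsg.Agent.H894.EK

open Cfsg Cfsg.Agent.H889.Enum

theorem bigK (hK : AllK) : BigK := by
  rintro T _ _ K _ _ d h2 hd (h | h) ⟨ρ, hρ⟩
  · have := H876.EK.Mon.deg h h2 ρ hρ
    omega
  · have := H876.EK.Ly.deg (fun S _ _ _ => hK S inferInstance) h ρ hρ
    omega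

end Cfsg.Agent.H894.EK
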