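import Cfsg.Agent.H894.EK.GlueA
import Cfsg.Agent.H252.EN.TabKB

/-!
# S5745, CrossK: `E₆(q)`, `²E₆(q)` (helper894)
-/

set_option autoImplicit false

namespace Cfsg.Agent.H894.EK

open Cfsg Cfsg.Agent.OrdDiv Cfsg.Agent.H902 Cfsg.Agent.H902.Names Cfsg.Agent.H290.ElReg
open Cfsg.Agent.H209.EPX Cfsg.Agent.H542.EPX Cfsg.Agent.H889.Enum Cfsg.Agent.H252.EN Cfsg.Agent.H354.EPX
open Cfsg.Agent.H783.EX Cfsg.Agent.H357.EP

/-- **`E₆(q)`** -/
theorem crossk_e6 (hK : AllK) (A : AutData) (B : BdAll) {F : Type} [Field F] [Fintype F] (p : ℕ) [Fact p.Prime]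
    [CharP F p] (R : RowsE6 F) : CrossK p ↥(Lie.chevE6.group F) := by
  have hp : p.Prime := Fact.out
  obtain ⟨f, hF, hR⟩ := real_e6 p F
  have hf : f ≠ 0 := by have := hR.hf; omega
  have hin : p ^ f = 3 → InE6 ↥(Lie.chevE6.group F) := fun h =>
    inE6 (by rw [hF, h]; decide) (MulEquiv.refl _)
  refine crossk_gen hK A B (D := 78) (Y := .E6) (m := 12) (by norm_num) (fth_e6 F) hR ?_
    (lieK_of_chkKF data (by decide) (by norm_num) chkK_e6) (by norm_num)
    (altK_of_chkKAF data (by decide) (by norm_num) chkKA_e6) ?_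
    (titsK_of_chkKTiF data (by decide) chkKTi_e6) (spor_e6 p) ?_ ?_ ?_ ?_
  · intro H N T _ k e hk _ h ho
    refine ⟨by decide, ?_⟩
    exact le_three (inE6 (by rw [hF]; exact ho.pow) (MulEquiv.refl _)) h
  · intro T _ n i hi he
    have := alt_le_e6 (p := p) hi he
    split_ifs at this <;> omega
  · intro X l a k hm hl
    simp only [alKE6, List.mem_cons, Prod.mk.injEq, List.not_mem_nil, or_false] at hm
    obtain ⟨⟨⟨rfl, rfl, rfl⟩, rfl⟩, hq⟩ := hm
    exact row_of (R.u33 (hF.trans hq)) fun T _ h => inv_U h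
  · intro n k hm
    simp only [alAE6, List.mem_cons, Prod.mk.injEq, List.not_mem_nil, or_false] at hm
    rcases hm with ⟨⟨rfl, rfl⟩, hq⟩ | ⟨⟨rfl, rfl⟩, hq⟩ | ⟨⟨rfl, rfl⟩, hq⟩ | ⟨⟨rfl, rfl⟩, hq⟩ | ⟨⟨rfl, rfl⟩, hq⟩
    · exact row_of (R.a7 (hF.trans hq)) fun T _ h => h
    · obtain rfl := prime_of_pow (n := 1) hp Nat.prime_two hq hf
      exact row_own fun T _ h => own_a8 h
    · obtain rfl := prime_of_pow (n := 2) hp Nat.prime_two hq hf
      exact row_own fun T _ h => own_a8 h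
    · exact row_rk4 (hin hq) le_rfl fun T _ h => rk4_altN (by norm_num) h
    · exact row_of (R.a10 (hF.trans hq)) fun T _ h => h
  · intro k hm
    simp only [alTE6K, List.mem_cons, Prod.mk.injEq, List.not_mem_nil, or_false, true_and] at hm
    obtain ⟨rfl, hq⟩ := hm
    exact row_of (R.tits (hF.trans hq)) fun T _ h => h
  · intro t k hm
    simp only [List.mem_cons, Prod.mk.injEq, List.not_mem_nil, or_false] at hm
    obtain ⟨⟨rfl, rfl⟩, hq⟩ := hm
    intro H N T _ e h hT _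
    have hfin : Finite T := finT e (by norm_num)
    have hM : Spor.IsoM22 T := spor_name (x := (.m22, 443520)) (by decide) (hK T h.simple) (fun hc => by
      obtain ⟨a, b, hab⟩ := h.nab
      exact hab (hc a b)) hT.2
    exact Rk4.eps_no (hin hq) h (rk4_isoM22 hM) le_rfl

/-- **`²E₆(q)`** -/
theorem crossk_te6 (hK : AllK) (A : AutData) (B : BdAll) {K : Type} [Field K] [Fintype K] (p : ℕ) [Fact p.Prime]
    [CharP K p] {q : ℕ} (hq2 : Fintype.card K = q ^ 2) (R : RowsTE6 K q) : CrossK p ↥(Lie.twistedE6 K q) := by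
  have hp : p.Prime := Fact.out
  obtain ⟨f, hF, hR⟩ := real_te6 p K hq2
  have hf : f ≠ 0 := by have := hR.hf; omega
  have hcK : Fintype.card K = (p ^ f) ^ 2 := by rw [hq2, hF]
  have hin : p ^ f = 3 → InE6 ↥(Lie.twistedE6 K q) := fun h =>
    inE6_tw (by rw [hcK, h]; decide) (MulEquiv.refl _)
  refine crossk_gen hK A B (D := 78) (Y := .TE6) (m := 12) (by norm_num) (fth_te6 K q) hR ?_
    (lieK_of_chkKF data (by decide) (by norm_num) chkK_te6) (by norm_num)
    (altK_of_chkKAF data (by decide) (by norm_num) chkKA_te6) ?_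
    (titsK_of_chkKTiF data (by decide) chkKTi_te6) (spor_te6 p) ?_ ?_ ?_ ?_
  · intro H N T _ k e hk _ h ho
    refine ⟨by decide, ?_⟩
    exact le_three (inE6_tw (by rw [hcK]; exact ho.pow.pow) (MulEquiv.refl _)) h
  · intro T _ n i hi he
    subst hF
    have := alt_le_te6 (p := p) (a := f) (by omega) hcK hi he
    split_ifs at this <;> omega
  · intro X l a k hm hl
    simp only [alKTE6, List.mem_cons, Prod.mk.injEq, List.not_mem_nil, or_false] at hm
    rcases hm with ⟨⟨⟨rfl, rfl, rfl⟩, rfl⟩, hq⟩ | ⟨⟨⟨rfl, rfl, rfl⟩, rfl⟩, hq⟩ | ⟨⟨⟨rfl, rfl, rfl⟩, rfl⟩, hq⟩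
    · obtain rfl := prime_of_pow (n := 1) hp Nat.prime_two hq hf
      exact row_own fun T _ h => own_sp43 (inv_C h (by norm_num))
    · exact row_rk4 (hin hq) le_rfl fun T _ h => rk4_sp62 (inv_C h (fun h => absurd h.2 (by decide)))
    · exact row_of (R.u33 (hF.trans hq)) fun T _ h => inv_U h
  · intro n k hm
    simp only [alATE6, List.mem_cons, Prod.mk.injEq, List.not_mem_nil, or_false] at hm
    rcases hm with ⟨⟨rfl, rfl⟩, hq⟩ | ⟨⟨rfl, rfl⟩, hq⟩ | ⟨⟨rfl, rfl⟩, hq⟩ | ⟨⟨rfl, rfl⟩, hq⟩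
    · exact row_of (R.a7 (hF.trans hq)) fun T _ h => h
    · obtain rfl := prime_of_pow (n := 1) hp Nat.prime_two hq hf
      exact row_own fun T _ h => own_a8 h
    · exact row_of (R.a9 (hF.trans hq)) fun T _ h => h
    · exact row_rk4 (hin hq) le_rfl fun T _ h => rk4_altN (by norm_num) h
  · intro k hm
    simp only [alTTE6, List.mem_cons, Prod.mk.injEq, List.not_mem_nil, or_false, true_and] at hm
    obtain ⟨rfl, hq⟩ := hm
    exact row_of (R.tits (hF.trans hq)) fun T _ h => h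
  · intro t k hm
    exact absurd hm List.not_mem_nil

end Cfsg.Agent.H894.EK
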