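import Cfsg.Agent.H894.EK.GlueA

/-!
# S5745, CrossK: `E₇(q)`, `E₈(q)` from the tables (helper894)
-/

set_option autoImplicit false

namespace Cfsg.Agent.H894.EK

open Cfsg Cfsg.Agent.OrdDiv Cfsg.Agent.H902 Cfsg.Agent.H902.Names Cfsg.Agent.H290.ElReg
open Cfsg.Agent.H209.EPX Cfsg.Agent.H542.EPX Cfsg.Agent.H889.Enum Cfsg.Agent.H252.EN Cfsg.Agent.H354.EPX
open Cfsg.Agent.H783.EX Cfsg.Agent.H357.EP

/-- the kernel tables for `E₇(q)` -/
structure TabE7 : Prop where
  l : chkKF .E7 133 alKE7 = true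
  a : chkKAF .E7 133 5 14 alAE7 = true
  t : chkKTiF .E7 133 alTE7 = true

/-- the kernel tables for `E₈(q)` -/
structure TabE8 : Prop where
  l : chkKF .E8 248 alKE8 = true
  a : chkKAF .E8 248 5 18 alAE8 = true
  t : chkKTiF .E8 248 alTE8 = true

/-- **`E₇(q)`** -/
theorem crossk_e7_of (C : TabE7) (M : BigK) (hK : AllK) (A : AutData) (B : BdAll) {F : Type} [Field F] [Fintype F]
    (p : ℕ) [Fact p.Prime] [CharP F p] (R : RowsE7 F) : CrossK p ↥(Lie.chevE7.group F) := by
  obtain ⟨f, hF, hR⟩ := real_e7 p F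
  have hf : f ≠ 0 := by have := hR.hf; omega
  refine crossk_gen hK A B (D := 133) (Y := .E7) (m := 14) (by norm_num) (fth_e7 F) hR ?_
    (lieK_of_chkKF data (by decide) (by norm_num) C.l) (by norm_num)
    (altK_of_chkKAF data (by decide) (by norm_num) C.a) ?_
    (titsK_of_chkKTiF data (by decide) C.t) (spor_e7 M p) ?_ ?_ ?_ ?_
  · intro H N T _ k e hk hkD h ho
    exact ⟨by decide, le_trans hkD (by decide)⟩
  · intro T _ n i hi he
    have := alt_le_e7 (p := p) hi he
    split_ifs at this <;> omega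
  · intro X l a k hm hl
    simp only [alKE7, List.mem_cons, Prod.mk.injEq, List.not_mem_nil, or_false] at hm
    obtain ⟨⟨⟨rfl, rfl, rfl⟩, rfl⟩, hq⟩ := hm
    exact row_of (R.u33 (hF.trans hq)) fun T _ h => inv_U h
  · intro n k hm
    exact absurd hm List.not_mem_nil
  · intro k hm
    simp only [alTE7, List.mem_cons, Prod.mk.injEq, List.not_mem_nil, or_false, true_and] at hm
    obtain ⟨rfl, hq⟩ := hm
    exact row_of (R.tits (hF.trans hq)) fun T _ h => h
  · intro t k hm
    exact absurd hm List.not_mem_nil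

/-- **`E₈(q)`** -/
theorem crossk_e8_of (C : TabE8) (hK : AllK) (A : AutData) (B : BdAll) {F : Type} [Field F] [Fintype F]
    (p : ℕ) [Fact p.Prime] [CharP F p] (R : RowsE8 F) : CrossK p ↥(Lie.chevE8.group F) := by
  obtain ⟨f, hF, hR⟩ := real_e8 p F
  have hf : f ≠ 0 := by have := hR.hf; omega
  refine crossk_gen hK A B (D := 248) (Y := .E8) (m := 18) (by norm_num) (fth_e8 F) hR ?_
    (lieK_of_chkKF data (by decide) (by norm_num) C.l) (by norm_num)
    (altK_of_chkKAF data (by decide) (by norm_num) C.a) ?_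
    (titsK_of_chkKTiF data (by decide) C.t) (spor_e8 p) ?_ ?_ ?_ ?_
  · intro H N T _ k e hk hkD h ho
    exact ⟨by decide, le_trans hkD (by decide)⟩
  · intro T _ n i hi he
    have := alt_le_e8 (p := p) hi he
    split_ifs at this <;> omega
  · intro X l a k hm hl
    exact absurd hm List.not_mem_nil
  · intro n k hm
    simp only [alAE8, List.mem_cons, Prod.mk.injEq, List.not_mem_nil, or_false] at hm
    rcases hm with ⟨⟨rfl, rfl⟩, hq⟩ | ⟨⟨rfl, rfl⟩, hq⟩
    · exact row_of (R.a13 (hF.trans hq)) fun T _ h => h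
    · exact row_of (R.a14 (hF.trans hq)) fun T _ h => h
  · intro k hm
    exact absurd hm List.not_mem_nil
  · intro t k hm
    exact absurd hm List.not_mem_nil

end Cfsg.Agent.H894.EK
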