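import Cfsg.Agent.H894.EK.GlueA
import Cfsg.Agent.H82.EK.BdAll
import Cfsg.Agent.H354.EPX.AutD
import Cfsg.Agent.H938.EPK.RowsF4

/-!
# S5745, CrossK: `F₄(q)`, `G₂(q)`, final form (helper894)
-/

set_option autoImplicit false

namespace Cfsg.Agent.H894.EK

open Cfsg Cfsg.Agent.H542.EPX Cfsg.Agent.H889.Enum Cfsg.Agent.H354.EPX Cfsg.Agent.H59.EP

/-- **`F₄(q)`** -/
theorem f4_crossk (hg : TwoGen.{0}) (hK : AllK) (F : Type) [Field F] [Fintype F] (p : ℕ) [Fact p.Prime] [CharP F p] :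
    CrossK p ↥(Lie.chevF4.group F) := crossk_f4 hK autData (H82.EK.bdAll hg) p H938.EPK.RowsF4.rowsF4

/-- **`G₂(q)`** -/
theorem g2_crossk (hg : TwoGen.{0}) (hK : AllK) (F : Type) [Field F] [Fintype F] (p : ℕ) [Fact p.Prime] [CharP F p]
    (h3 : 3 ≤ Fintype.card F) : CrossK p ↥(Lie.chevG2.group F) := crossk_g2 hK autData (H82.EK.bdAll hg) p h3

end Cfsg.Agent.H894.EK
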