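import Cfsg.Agent.H894.EK.GlueB
import Cfsg.Agent.H82.EK.BdAll
import Cfsg.Agent.H354.EPX.AutD
import Cfsg.Agent.H168.CK.RowsE6

/-!
# S5745, CrossK: `E₆(q)`, `²E₆(q)`, final form (helper894)
-/

set_option autoImplicit false

namespace Cfsg.Agent.H894.EK

open Cfsg Cfsg.Agent.H542.EPX Cfsg.Agent.H889.Enum Cfsg.Agent.H354.EPX Cfsg.Agent.H59.EP

/-- **`E₆(q)`** -/
theorem e6_crossk (hg : TwoGen.{0}) (hK : AllK) (F : Type) [Field F] [Fintype F] (p : ℕ) [Fact p.Prime] [CharP F p] :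
    CrossK p ↥(Lie.chevE6.group F) := crossk_e6 hK autData (H82.EK.bdAll hg) p (H168.CK.rowsE6 hg F)

/-- **`²E₆(q)`** -/
theorem te6_crossk (hg : TwoGen.{0}) (hK : AllK) (K : Type) [Field K] [Fintype K] (p q : ℕ) [Fact p.Prime] [CharP K p]
    (hq2 : Fintype.card K = q ^ 2) : CrossK p ↥(Lie.twistedE6 K q) :=
  crossk_te6 hK autData (H82.EK.bdAll hg) p hq2 (H168.CK.rowsTE6 hg K hq2)

end Cfsg.Agent.H894.EK
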