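import Cfsg.Agent.H894.EK.GlueC
import Cfsg.Agent.H894.EK.Big
import Cfsg.Agent.H82.EK.BdAll
import Cfsg.Agent.H354.EPX.AutD
import Cfsg.Agent.H523.EPX.RowsAll
import Cfsg.Agent.H252.EN.TabKC

/-!
# S5745, CrossK: `E₇(q)`, final form (helper894)
-/

set_option autoImplicit false

namespace Cfsg.Agent.H894.EK

open Cfsg Cfsg.Agent.H542.EPX Cfsg.Agent.H889.Enum Cfsg.Agent.H354.EPX Cfsg.Agent.H59.EP Cfsg.Agent.H252.EN

/-- **`E₇(q)`** -/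
theorem e7_crossk (hg : TwoGen.{0}) (hK : AllK) (F : Type) [Field F] [Fintype F] (p : ℕ) [Fact p.Prime] [CharP F p] :
    CrossK p ↥(Lie.chevE7.group F) :=
  crossk_e7_of ⟨chkK_e7, chkKA_e7, chkKTi_e7⟩ (bigK hK) hK autData (H82.EK.bdAll hg) p (H523.EPX.rowsE7 F)

end Cfsg.Agent.H894.EK
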