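import Cfsg.Agent.H894.EK.GlueA
import Cfsg.Agent.H82.EK.BdAll
import Cfsg.Agent.H354.EPX.AutD
import Cfsg.Agent.H523.EPX.RowsAll
import Cfsg.Agent.H148.EK.TdEight

/-!
# S5745, CrossK: `³D₄(q)`, final form (helper894)
-/

set_option autoImplicit false

namespace Cfsg.Agent.H894.EK

open Cfsg Cfsg.Agent.H542.EPX Cfsg.Agent.H889.Enum Cfsg.Agent.H354.EPX Cfsg.Agent.H59.EP

/-- **`³D₄(q)`** -/
theorem td4_crossk (hg : TwoGen.{0}) (hK : AllK) (K : Type) [Field K] [Fintype K] (p q : ℕ) [Fact p.Prime] [CharP K p]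
    (hq3 : Fintype.card K = q ^ 3) : CrossK p ↥(Lie.twistedD4 K q) :=
  crossk_td4 hK autData (H82.EK.bdAll hg) p hq3 (H523.EPX.rowsTD4 K hq3) (by
    rintro rfl
    exact ⟨K, inferInstance, inferInstance, H148.EK.fth_td4_eight q⟩)

end Cfsg.Agent.H894.EK
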