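import Cfsg.Agent.H354.EPX.Glue
import Cfsg.Agent.H252.EN.TabK
import Cfsg.Agent.H746.EK.Bound
import Cfsg.Agent.H898.EPX.LSk
import Cfsg.Agent.H631.EK.Spor
import Cfsg.Agent.H498.SporOut
import Cfsg.Agent.H168.Rad
import Cfsg.Agent.H894.EK.Rows
import Cfsg.Agent.H894.EK.Real

/-!
# S5745, CrossK: the glue theorem for all families (helper894)

`crossk_gen` : `CrossK p G` for a model `G` of the family `Y`, from the kernel tables of `H252.EN.TabK` and the rows.
-/

set_option autoImplicit false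

namespace Cfsg.Agent.H894.EK

open Cfsg Cfsg.Agent.OrdDiv Cfsg.Agent.H902 Cfsg.Agent.H902.Names Cfsg.Agent.H290.ElReg Cfsg.Agent.H290.ElTab
open Cfsg.Agent.H209.EPX Cfsg.Agent.H542.EPX Cfsg.Agent.H889.Enum Cfsg.Agent.H252.EN Cfsg.Agent.H354.EPX
open Cfsg.Agent.H746.EK

/-- the bound (TK) for all `k` -/
def BdAll : Prop := ∀ (G : Type) [Group G] [Finite G] (H N : Subgroup G) (T : Type) [Group T] (k : ℕ)
  (e : N ≃* (Fin k → T)) (a : ℕ), EPS H N e → Cfsg.Agent.Schreier.Basic.Sch T → 2 ≤ k → Nat.card (MulAut T) ≤ a →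
    a ≤ Nat.card T ^ 2 → k ≤ Nat.card T ^ 2 → Nat.card T < 60 ^ 61 → facOk (Nat.card T) = true →
    Nat.card G ≤ Bk (Nat.card T) a k

/-- no stabiliser with socle `T ^ k`, `P T`, `T` not of Lie type in characteristic `p` -/
def RowX (P : ∀ (T : Type) [Group T], Prop) (p : ℕ) (G : Type) [Group G] (k : ℕ) : Prop :=
  ∀ (H N : Subgroup G) (T : Type) [Group T] (e : N ≃* (Fin k → T)), EPS H N e → P T → ¬ IsLieTypeChar p T → False

/-- `T` has a name of shape `X` -/
abbrev NmL (X : Art.Sh) (l a : ℕ) : ∀ (T : Type) [Group T], Prop := fun T _ => ∃ g, IsLie g X l a ∧ OrdDiv.Real g T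

/-- the injection of the socle -/
def embK {G : Type} [Group G] {N : Subgroup G} {T : Type} [Group T] {k : ℕ} (e : N ≃* (Fin k → T)) : (Fin k → T) →* G :=
  N.subtype.comp e.symm.toMonoidHom

theorem embK_injective {G : Type} [Group G] {N : Subgroup G} {T : Type} [Group T] {k : ℕ} (e : N ≃* (Fin k → T)) :
    Function.Injective (embK e) := N.subtype_injective.comp e.symm.injective

/-- the injection of a factor -/
theorem exists_factor {G : Type} [Group G] {N : Subgroup G} {T : Type} [Group T] {k : ℕ} (e : N ≃* (Fin k → T))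
    (hk : 0 < k) : ∃ φ : T →* G, Function.Injective φ := by
  classical
  exact ⟨(embK e).comp (MonoidHom.mulSingle (fun _ : Fin k => T) ⟨0, hk⟩),
    (embK_injective e).comp (Pi.mulSingle_injective (M := fun _ : Fin k => T) ⟨0, hk⟩)⟩

theorem finT {G : Type} [Group G] [Finite G] {N : Subgroup G} {T : Type} [Group T] {k : ℕ} (e : N ≃* (Fin k → T))
    (hk : 0 < k) : Finite T := by
  obtain ⟨φ, hφ⟩ := exists_factor e hk
  exact Finite.of_injective φ hφ

/-- `|Aut T| ≤ 2 |T|` for the sporadic groups -/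
theorem aut_le_two {T : Type} [Group T] [Finite T] (h : IsSporadicGroup T) : Nat.card (MulAut T) ≤ 2 * Nat.card T := by
  have h1 := Cfsg.Agent.H498.SporOut.index_le_two h
  have h2 := Subgroup.card_mul_index (MulAut.conj : T →* MulAut T).range
  have h3 : Nat.card (MulAut.conj : T →* MulAut T).range ≤ Nat.card T :=
    Nat.card_le_card_of_surjective (MulAut.conj : T →* MulAut T).rangeRestrict (MonoidHom.rangeRestrict_surjective _)
  rw [← h2, mul_comm 2]
  exact Nat.mul_le_mul h3 h1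

/-- the region of degree 124: sizes -/
theorem reg_chk : ((reg 124).all fun x => Nat.blt 0 (ouN x.1 x.2.1 x.2.2) &&
    (Nat.ble (ouN x.1 x.2.1 x.2.2) (od x.1 x.2.1 x.2.2) &&
    Nat.blt (od x.1 x.2.1 x.2.2) (60 ^ 61))) = true := by decide +kernel

theorem reg_mono {m n : ℕ} (h : m ≤ n) {X : Art.Sh} {l a : ℕ} (hr : (X, (l, a)) ∈ reg m) : (X, (l, a)) ∈ reg n := by
  obtain ⟨r1, r2, r3, r4⟩ := mem_reg_iff.1 hr
  exact mem_reg_iff.2 ⟨r1, r2, r3.trans h, r4⟩

theorem reg_sizes {n : ℕ} (hn : n ≤ 124) {X : Art.Sh} {l a t : ℕ} (hr : (X, (l, a)) ∈ reg n) (hT : Art.Real X l a t) :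
    0 < ouN X l a ∧ ouN X l a ≤ t ∧ t < 60 ^ 61 := by
  have h1 := List.all_eq_true.1 reg_chk _ (reg_mono hn hr)
  rw [← real_eq hT, Bool.and_eq_true, Bool.and_eq_true, Nat.ble_eq, Nat.blt_eq, Nat.blt_eq] at h1
  exact h1

theorem sixty_le {T : Type} [Group T] [Finite T] (hs : IsSimpleGroup T) (hna : ∃ a b : T, a * b ≠ b * a) :
    60 ≤ Nat.card T := by
  refine Cfsg.Agent.H168.NoSolv.sixty_le fun hsol => ?_
  obtain ⟨a, b, hab⟩ := hna
  exact hab (IsSimpleGroup.comm_iff_isSolvable.2 hsol a b)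

/-- the part of the tables for the names of Lie type -/
def LieK (Y : Art.Sh) (D p : ℕ) (al : List (((Art.Sh × ℕ × ℕ) × ℕ) × ℕ)) : Prop :=
  ∀ (X : Art.Sh) (l a t k f g : ℕ), 2 ≤ k → k ≤ D / 2 → Art.Real X l a t → (X, (l, a)) ∈ reg (D / k) →
    Art.Real Y p f g → l ≠ p → (Odd p → Y ∈ Yo ∧ k ≤ kodd Y) →
    facOk t = true ∧ (g ≤ Bk t (ouN X l a * t) k → t ^ k ∣ g → (((X, (l, a)), k), p ^ f) ∈ al)

theorem lieK_of_chkKL {Y : Art.Sh} (hY : Y ∈ Ys) {D p : ℕ} {al : List (((Art.Sh × ℕ × ℕ) × ℕ) × ℕ)}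
    (hc : chkKL Y D al = true) : LieK Y D p al := fun _ _ _ _ _ _ _ hk hkD hT hr hG hlp ho =>
  ⟨chkKL_fac hc hk hT hr, fun hu hd => chkKL_spec hY hc hk hkD hT hr hG hlp hu hd ho⟩

/-- the part of the tables for the Tits group -/
def TitsK (Y : Art.Sh) (D p : ℕ) (al : List ((Unit × ℕ) × ℕ)) : Prop :=
  ∀ (k f g : ℕ), 2 ≤ k → k ≤ D / 2 → Art.Real Y p f g → g ≤ Bk 17971200 35942400 k → 17971200 ^ k ∣ g →
    (Odd p → Y ∈ Yo ∧ k ≤ kodd Y) → (((), k), p ^ f) ∈ al

theorem titsK_of_chkKTi {Y : Art.Sh} (hY : Y ∈ Ys) {D p : ℕ} [Fact p.Prime] {al : List ((Unit × ℕ) × ℕ)}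
    (hc : chkKTi Y D al = true) : TitsK Y D p al := fun k f g hk hkD hR hB hd ho =>
  chkT2_spec hY hc hk hkD (Nat.zero_le _) hR
    (by rw [Nat.mod_zero]; exact pow_ne_zero _ (Fact.out : p.Prime).ne_zero) hB hd ho

/-- the sporadic part of the tables -/
def SporK (Y : Art.Sh) (D p : ℕ) (al : List ((ℕ × ℕ) × ℕ)) : Prop :=
  ∀ (T : Type) [Group T] [Finite T] (k f g : ℕ), IsSporadicGroup T → 2 ≤ k → k ≤ D / 2 → Art.Real Y p f g →
    (Odd p → Y ∈ Yo ∧ k ≤ kodd Y) →
    (∃ (K : Type) (_ : Field K) (_ : CharP K p) (_ : IsAlgClosed K), Fth (D / k) K T) →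
    g ≤ Bk (Nat.card T) (2 * Nat.card T) k → Nat.card T ^ k ∣ g → ((Nat.card T, k), p ^ f) ∈ al

/-- the alternating part of the tables -/
def AltK (Y : Art.Sh) (D m p : ℕ) (al : List ((ℕ × ℕ) × ℕ)) : Prop :=
  ∀ (n t k f g : ℕ), 2 ≤ k → k ≤ D / 2 → 5 ≤ n → n ≤ m → 2 * t = n.factorial → Art.Real Y p f g →
    g ≤ Bk t (autA n) k → t ^ k ∣ g → (Odd p → Y ∈ Yo ∧ k ≤ kodd Y) → ((n, k), p ^ f) ∈ al

/-- the numbers `n! / 2`, `n ≤ 18` -/
theorem alt_chk : ((List.range 19).all fun n => Nat.blt n 5 || (facOk (n.factorial / 2) &&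
    (Nat.ble (autA n) ((n.factorial / 2) ^ 2) && Nat.blt (n.factorial / 2) (60 ^ 61)))) = true := by decide +kernel

theorem alt_ok {n t : ℕ} (h5 : 5 ≤ n) (h18 : n ≤ 18) (ht : 2 * t = n.factorial) :
    facOk t = true ∧ autA n ≤ t ^ 2 ∧ t < 60 ^ 61 := by
  have h1 := List.all_eq_true.1 alt_chk n (List.mem_range.2 (by omega))
  rw [show n.factorial / 2 = t by omega] at h1
  simp only [Bool.or_eq_true, Bool.and_eq_true, Nat.ble_eq, Nat.blt_eq] at h1
  rcases h1 with h1 | h1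
  · omega
  · exact ⟨h1.1, h1.2.1, h1.2.2⟩

theorem tits_ok : facOk 17971200 = true := by decide +kernel

/-- **the glue theorem** -/
theorem crossk_gen (hK : AllK) (A : AutData) (B : BdAll) {D p f : ℕ} [Fact p.Prime] (hD : D ≤ 248) {F : Type} [Field F]
    [CharP F p] {G : Type} [Group G] [Finite G] (hG : Fth D F G) {Y : Art.Sh}
    (hR : Art.Real Y p f (Nat.card G))
    (hodd : ∀ (H N : Subgroup G) (T : Type) [Group T] (k : ℕ) (e : N ≃* (Fin k → T)), 2 ≤ k → k ≤ D / 2 →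
      EPS H N e → Odd p → Y ∈ Yo ∧ k ≤ kodd Y)
    {al : List (((Art.Sh × ℕ × ℕ) × ℕ) × ℕ)} (hc : LieK Y D p al) {m : ℕ} (hm18 : m ≤ 18)
    {alA : List ((ℕ × ℕ) × ℕ)} (hcA : AltK Y D m p alA)
    (hm : ∀ (T : Type) [Group T] (n : ℕ) (i : T →* G), Function.Injective i →
      Nonempty (T ≃* alternatingGroup (Fin n)) → n ≤ m)
    {alT : List ((Unit × ℕ) × ℕ)} (hcT : TitsK Y D p alT)
    {alS : List ((ℕ × ℕ) × ℕ)} (hcS : SporK Y D p alS)
    (rows : ∀ (X : Art.Sh) (l a k : ℕ), (((X, (l, a)), k), p ^ f) ∈ al → l ≠ p → RowX (NmL X l a) p G k)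
    (rowsA : ∀ n k : ℕ, ((n, k), p ^ f) ∈ alA → RowX (Nm (.alt n)) p G k)
    (rowsT : ∀ k : ℕ, (((), k), p ^ f) ∈ alT → RowX (Nm .tits) p G k)
    (rowsS : ∀ t k : ℕ, ((t, k), p ^ f) ∈ alS →
      RowX (fun T _ => IsSporadicGroup T ∧ Nat.card T = t) p G k) : CrossK p G := by
  intro H N T _ k e hk h hL
  have hT : Finite T := finT e (by omega)
  have hs : IsSimpleGroup T := h.simple
  have hna : ¬ ∀ a b : T, a * b = b * a := by
    obtain ⟨a, b, hab⟩ := h.nab
    exact fun hc => hab (hc a b)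
  have hKT : IsKnownSimple' T := hK T hs
  have hsch : Cfsg.Agent.Schreier.Basic.Sch T :=
    Cfsg.Agent.Schreier.Assembly.known T (fun hcm => hna fun a b => hcm.is_comm.comm a b) hKT
  have h60 := sixty_le hs h.nab
  have hfth : Fth (D / k) (AlgebraicClosure F) T :=
    Cfsg.Agent.H898.EPX.fth_div (by omega) hna hG (embK e) (embK_injective e)
  have hch : CharP (AlgebraicClosure F) p := charP_of_injective_algebraMap (algebraMap F (AlgebraicClosure F)).injective p
  have hDk : D / k ≤ 124 := (Nat.div_le_div_left hk (by norm_num)).trans (by omega)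
  have hkD : k ≤ D / 2 := by
    by_contra hcon
    push Not at hcon
    have h1 : D < k * 2 := by omega
    have h2 : D / k < 2 := (Nat.div_lt_iff_lt_mul (by omega)).2 (by rw [mul_comm]; exact h1)
    -- degree `≤ 1` : abelian
    obtain ⟨ρ, hρ⟩ := hfth
    apply hna
    intro a b
    apply hρ
    rw [map_mul, map_mul]
    apply Units.ext
    rw [Units.val_mul, Units.val_mul]
    ext i j
    have hi : ∀ x y : Fin (D / k), x = y := by
      intro x y
      apply Fin.ext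
      have := x.2
      have := y.2
      omega
    rw [Matrix.mul_apply, Matrix.mul_apply]
    refine Finset.sum_congr rfl fun x _ => ?_
    rw [hi x i, hi j i, mul_comm]
  have hkT : k ≤ Nat.card T ^ 2 := by
    calc k ≤ D / 2 := hkD
      _ ≤ 60 ^ 2 := by omega
      _ ≤ Nat.card T ^ 2 := Nat.pow_le_pow_left h60 2
  have hd : Nat.card T ^ k ∣ Nat.card G := pow_dvd h
  have ho := hodd H N T k e hk hkD h
  rcases cross_lie table (hDk.trans (by norm_num)) hna hKT hfth hL with h1 | h1 | h1 | h1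
  · obtain ⟨n, hn, he⟩ := h1
    obtain ⟨φ, hφ⟩ := exists_factor e (by omega)
    have hnm := hm T n φ hφ he
    have ht : 2 * Nat.card T = n.factorial := by
      obtain ⟨i⟩ := he
      rw [Nat.card_congr i.toEquiv, Nat.card_eq_fintype_card]
      have : Nontrivial (Fin n) := Fin.nontrivial_iff_two_le.2 (by omega)
      rw [two_mul_card_alternatingGroup, Fintype.card_perm, Fintype.card_fin]
    obtain ⟨k1, k2, k3⟩ := alt_ok hn (hnm.trans hm18) ht
    have ha : Nat.card (MulAut T) ≤ autA n := by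
      refine Nat.le_of_dvd ?_ (A.alt n T hna hn he)
      unfold autA
      split_ifs
      · norm_num
      · exact Nat.factorial_pos n
    have hB := B G H N T k e (autA n) h hsch hk ha k2 hkT k3 k1
    exact rowsA n k (hcA n (Nat.card T) k f (Nat.card G) hk hkD hn hnm ht hR hB hd ho) H N T e h he hL
  · have ht : Nat.card T = 17971200 := table_spor T (.tits, 17971200) (by decide) h1
    have ha : Nat.card (MulAut T) ≤ 35942400 := Nat.le_of_dvd (by norm_num) (A.tits T hna h1)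
    have hB := B G H N T k e 35942400 h hsch hk ha (by rw [ht]; norm_num) hkT (by rw [ht]; norm_num)
      (by rw [ht]; exact tits_ok)
    rw [ht] at hB hd
    exact rowsT k (hcT k f _ hk hkD hR hB hd ho) H N T e h h1 hL
  · have hmem := Cfsg.Agent.H631.EK.card_mem h1
    have h2 : Nat.card T < 60 ^ 61 := by
      have : (Cfsg.Agent.H631.EK.spo.all fun t => Nat.blt t (60 ^ 61)) = true := by decide +kernel
      have h3 := List.all_eq_true.1 this _ hmem
      rwa [Nat.blt_eq] at h3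
    have hB := B G H N T k e (2 * Nat.card T) h hsch hk (aut_le_two h1)
      (by rw [pow_two]; exact Nat.mul_le_mul_right _ (by omega)) hkT h2 (Cfsg.Agent.H631.EK.facOk_spo hmem)
    exact rowsS _ k (hcS T k f (Nat.card G) h1 hk hkD hR ho ⟨_, _, hch, inferInstance, hfth⟩ hB hd) H N T e h ⟨h1, rfl⟩ hL
  · obtain ⟨g, X, l, a, hg, hRT, hA, hr, hlp⟩ := h1
    obtain ⟨k1, k2, k3⟩ := reg_sizes hDk hr hA
    have ha : Nat.card (MulAut T) ≤ ouN X l a * Nat.card T :=
      Nat.le_of_dvd (Nat.mul_pos k1 (by omega)) (A.lie g X l a T hna hg hRT hA)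
    obtain ⟨hf, hc'⟩ := hc X l a (Nat.card T) k f _ hk hkD hA hr hR hlp ho
    have hB := B G H N T k e _ h hsch hk ha (by rw [pow_two]; exact Nat.mul_le_mul_right _ k2) hkT k3 hf
    exact rows X l a k (hc' hB hd) hlp H N T e h ⟨g, hg, hRT⟩ hL

end Cfsg.Agent.H894.EK
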