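import Cfsg.Agent.H894.EK.Gen
import Cfsg.Agent.H626.EK.Card
import Cfsg.Agent.H626.EK.SporE8
import Cfsg.Agent.H626.EK.SporE7
import Cfsg.Agent.H18.EK.SporF
import Cfsg.Agent.H252.EN.TabF

/-!
# S5745, CrossK: the parts of the tables in the form used by `crossk_gen` (helper894)
-/

set_option autoImplicit false

namespace Cfsg.Agent.H894.EK

open Cfsg Cfsg.Agent.OrdDiv Cfsg.Agent.H902 Cfsg.Agent.H902.Names Cfsg.Agent.H290.ElReg Cfsg.Agent.H290.ElTab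
open Cfsg.Agent.H209.EPX Cfsg.Agent.H542.EPX Cfsg.Agent.H889.Enum Cfsg.Agent.H252.EN
open Cfsg.Agent.H746.EK

/-! ### the fast tables -/

theorem lieK_of_chkKF (hD : Data) {Y : Art.Sh} (hY : Y ∈ Ys) {D p : ℕ} (hD248 : D ≤ 248)
    {al : List (((Art.Sh × ℕ × ℕ) × ℕ) × ℕ)} (hc : chkKF Y D al = true) : LieK Y D p al :=
  fun _ _ _ _ _ _ _ hk hkD hT hr hG hlp ho =>
    ⟨(hD.name ((Nat.div_le_div hD248 hk (by norm_num)).trans (by norm_num)) hr hT).2,
      fun hu hd => chkKF_spec hD hY hD248 hc hk hkD hT hr hG hlp hu hd ho⟩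

theorem titsK_of_chkKTiF (hD : Data) {Y : Art.Sh} (hY : Y ∈ Ys) {D p : ℕ} {al : List ((Unit × ℕ) × ℕ)}
    (hc : chkKTiF Y D al = true) : TitsK Y D p al := fun _ _ _ hk hkD hR hB hd ho =>
  chkKTiF_spec hD hY hc hk hkD hR hB hd ho

theorem altK_of_chkKAF (hD : Data) {Y : Art.Sh} (hY : Y ∈ Ys) {D m p : ℕ} (hm : m ≤ 18) {al : List ((ℕ × ℕ) × ℕ)}
    (hc : chkKAF Y D 5 m al = true) : AltK Y D m p al := fun _ _ _ _ _ hk hkD h5 hnm ht hR hB hd ho =>
  (chkKAF_spec hD hY hc hk hkD h5 (hnm.trans hm) h5 hnm ht hR hB hd ho).1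

/-! ### the sporadic groups -/

section

variable {p f g : ℕ}

theorem isPP {Y : Art.Sh} (h : Art.Real Y p f g) : IsPrimePow (p ^ f) :=
  h.hp.isPrimePow.pow (by have := h.hf; omega)

theorem dn_e8 (h : Art.Real .E8 p f g) : dn .e8 (p ^ f) * g = nm .e8 (p ^ f) := by
  have h1 : 1 * g = (p ^ f) ^ 120 * (_ * _ * _ * _ * _ * _ * _ * _) := h.eq
  change 1 * g = _ * _ * _ * _ * _ * _ * _ * _ * _
  rw [h1]
  ring

theorem dn_e7 (h : Art.Real .E7 p f g) : dn .e7 (p ^ f) * g = nm .e7 (p ^ f) := by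
  have h1 : Nat.gcd 2 (p ^ f - 1) * g = (p ^ f) ^ 63 * (_ * _ * _ * _ * _ * _ * _) := h.eq
  change Nat.gcd 2 (p ^ f - 1) * g = _ * _ * _ * _ * _ * _ * _ * _
  rw [h1]
  ring

theorem dn_e6 (h : Art.Real .E6 p f g) : dn .e6 (p ^ f) * g = nm .e6 (p ^ f) := by
  have h1 : Nat.gcd 3 (p ^ f - 1) * g = (p ^ f) ^ 36 * (_ * _ * _ * _ * _ * _) := h.eq
  change Nat.gcd 3 (p ^ f - 1) * g = _ * _ * _ * _ * _ * _ * _
  rw [h1]
  ring

theorem dn_te6 (h : Art.Real .TE6 p f g) : dn .te6 (p ^ f) * g = nm .te6 (p ^ f) := by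
  have h1 : Nat.gcd 3 (p ^ f + 1) * g = (p ^ f) ^ 36 * (_ * _ * _ * _ * _ * _) := h.eq
  change Nat.gcd 3 (p ^ f + 1) * g = _ * _ * _ * _ * _ * _ * _
  rw [h1]
  ring

theorem dn_f4 (h : Art.Real .F4 p f g) : dn .f4 (p ^ f) * g = nm .f4 (p ^ f) := by
  have h1 : 1 * g = (p ^ f) ^ 24 * (_ * _ * _ * _) := h.eq
  change 1 * g = _ * _ * _ * _ * _
  rw [h1]
  ring

theorem dn_td4 (h : Art.Real .TD4 p f g) : dn .td4 (p ^ f) * g = nm .td4 (p ^ f) := by
  have h1 : 1 * g = (p ^ f) ^ 12 * (_ * _ * _) := h.eq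
  change 1 * g = _ * _ * _ * _
  rw [h1]
  ring

theorem dn_g2 (h : Art.Real .G2 p f g) : dn .g2 (p ^ f) * g = nm .g2 (p ^ f) := by
  have h1 : 1 * g = (p ^ f) ^ 6 * (_ * _) := h.eq
  change 1 * g = _ * _ * _
  rw [h1]
  ring

end

theorem spor_e8 (p : ℕ) : SporK .E8 248 p [] := fun _ _ _ _ _ _ h hk hkD hR _ _ hB hd =>
  (H626.EK.spor_e8 (H626.EK.card_mem_sporO h) (isPP hR) hk hkD (dn_e8 hR) hd hB).elim

theorem spor_te6 (p : ℕ) : SporK .TE6 78 p [] := fun _ _ _ _ _ _ h hk hkD hR ho _ hB hd =>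
  (H18.EK.spor_te6 (H626.EK.card_mem_sporO h) hk hkD (isPP hR) (fun hq => (ho (by
    rw [Nat.odd_pow_iff (by have := hR.hf; omega)] at hq; exact hq)).2) (dn_te6 hR) hd hB).elim

theorem spor_e6 (p : ℕ) : SporK .E6 78 p [((443520, 2), 3)] := by
  intro T _ _ k f g h hk hkD hR ho _ hB hd
  obtain ⟨h1, h2, h3⟩ := H18.EK.spor_e6 (H626.EK.card_mem_sporO h) hk hkD (isPP hR) (fun hq => (ho (by
    rw [Nat.odd_pow_iff (by have := hR.hf; omega)] at hq; exact hq)).2) (dn_e6 hR) hd hB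
  rw [h1, h2, h3]
  exact List.mem_singleton.2 rfl

theorem spor_f4 (p : ℕ) : SporK .F4 52 p [((604800, 2), 4), ((604800, 2), 5)] := by
  intro T _ _ k f g h hk hkD hR ho _ hB hd
  obtain ⟨h1, h2, h3⟩ := H18.EK.spor_f4 (H626.EK.card_mem_sporO h) hk hkD (isPP hR) (fun hq => (ho (by
    rw [Nat.odd_pow_iff (by have := hR.hf; omega)] at hq; exact hq)).2) (dn_f4 hR) hd hB
  rw [h1, h2]
  rcases h3 with h3 | h3 <;> rw [h3] <;> decide

theorem spor_td4 : SporK .TD4 28 2 [] := by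
  intro T _ _ k f g h hk hkD hR ho _ hB hd
  exact (H631.EK.spor_td4 (H631.EK.card_mem h) (isPP hR) (dvd_pow_self 2 (by have := hR.hf; omega)) hk hkD
    (dn_td4 hR) hd hB).elim

theorem spor_g2 : SporK .G2 14 2 [] := by
  intro T _ _ k f g h hk hkD hR ho _ hB hd
  exact (H631.EK.spor_g2 (H631.EK.card_mem h) (isPP hR) (dvd_pow_self 2 (by have := hR.hf; omega)) hk hkD
    (dn_g2 hR) hd hB).elim

/-- the Monster and Lyons' group have no faithful representation of small degree, `p` odd -/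
def BigK : Prop := ∀ (T : Type) [Group T] [Finite T] (K : Type) [Field K] [IsAlgClosed K] (d : ℕ), (2 : K) ≠ 0 →
  d ≤ 19 → Spor.IsoM T ∨ Spor.IsoLy T → Fth d K T → False

theorem spor_e7 (B : BigK) (p : ℕ) : SporK .E7 133 p [] := by
  intro T _ _ k f g h hk hkD hR _ hF hB hd
  refine (H626.EK.spor_e7 (H626.EK.card_mem_sporO h) (isPP hR) hk hkD (fun hq hc => ?_) (dn_e7 hR) hd hB).elim
  rw [Nat.odd_pow_iff (by have := hR.hf; omega)] at hq
  by_contra hcon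
  push Not at hcon
  obtain ⟨K, _, _, _, hF'⟩ := hF
  refine B T K (133 / k) ?_ ?_ (hc.imp (H626.EK.isoM_of_card h) (H626.EK.isoLy_of_card h)) hF'
  · intro h2
    have h3 : ((2 : ℕ) : K) = 0 := by exact_mod_cast h2
    rw [CharP.cast_eq_zero_iff K p] at h3
    rcases hR.hp.eq_two_or_odd' with h4 | h4
    · subst h4
      exact absurd hq (by decide)
    · have := Nat.le_of_dvd (by norm_num) h3
      have := hR.hp.two_le
      have h5 : p = 2 := by omega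
      subst h5
      exact absurd hq (by decide)
  · have : 133 / k ≤ 133 / 7 := Nat.div_le_div_left hcon (by norm_num)
    omega

end Cfsg.Agent.H894.EK
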