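import Cfsg.Agent.H894.EK.Own
import Cfsg.Agent.H894.EK.Spor
import Cfsg.Agent.H252.EN.TabKA
import Cfsg.Agent.H252.EN.TabD
import Cfsg.Agent.H783.EX.Rank
import Cfsg.Agent.S2658
import Cfsg.Agent.S2660

/-!
# S5745, CrossK: `F₄(q)`, `G₂(q)`, `³D₄(q)` (helper894)
-/

set_option autoImplicit false

namespace Cfsg.Agent.H894.EK

open Cfsg Cfsg.Agent.OrdDiv Cfsg.Agent.H902 Cfsg.Agent.H902.Names Cfsg.Agent.H290.ElReg
open Cfsg.Agent.H209.EPX Cfsg.Agent.H542.EPX Cfsg.Agent.H889.Enum Cfsg.Agent.H252.EN Cfsg.Agent.H354.EPX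
open Cfsg.Agent.H783.EX Cfsg.Agent.H357.EP

theorem prime_of_pow {p f r n : ℕ} (hp : p.Prime) (hr : r.Prime) (h : p ^ f = r ^ n) (hf : f ≠ 0) : p = r :=
  (Nat.prime_dvd_prime_iff_eq hp hr).1 (hp.dvd_of_dvd_pow (h ▸ dvd_pow_self p hf))

/-- **`F₄(q)`** -/
theorem crossk_f4 (hK : AllK) (A : AutData) (B : BdAll) {F : Type} [Field F] [Fintype F] (p : ℕ) [Fact p.Prime]
    [CharP F p] (R : RowsF4 F) : CrossK p ↥(Lie.chevF4.group F) := by
  have hp : p.Prime := Fact.out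
  obtain ⟨f, hF, hR⟩ := real_f4 p F
  have hf : f ≠ 0 := by have := hR.hf; omega
  have hin : p ^ f = 3 ∨ p ^ f = 5 ∨ p ^ f = 7 → InE6 ↥(Lie.chevF4.group F) := fun h =>
    inE6_f4 (by rw [hF]; rcases h with h | h | h <;> rw [h] <;> decide) (MulEquiv.refl _)
  refine crossk_gen hK A B (D := 52) (Y := .F4) (m := 11) (by norm_num) (fth_f4 F) hR ?_
    (lieK_of_chkKF data (by decide) (by norm_num) chkK_f4) (by norm_num)
    (altK_of_chkKAF data (by decide) (by norm_num) chkKA_f4) ?_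
    (titsK_of_chkKTiF data (by decide) chkKTi_f4) (spor_f4 p) ?_ ?_ ?_ ?_
  · intro H N T _ k e hk _ h ho
    refine ⟨by decide, ?_⟩
    exact le_three (inE6_f4 (by rw [hF]; exact ho.pow) (MulEquiv.refl _)) h
  · intro T _ n i hi he
    have := alt_le_f4 (p := p) hi he
    split_ifs at this <;> omega
  · intro X l a k hm hl
    simp only [alKF4, List.mem_cons, Prod.mk.injEq, List.not_mem_nil, or_false] at hm
    rcases hm with ⟨⟨⟨rfl, rfl, rfl⟩, rfl⟩, hq⟩ | ⟨⟨⟨rfl, rfl, rfl⟩, rfl⟩, hq⟩ | ⟨⟨⟨rfl, rfl, rfl⟩, rfl⟩, hq⟩ |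
      ⟨⟨⟨rfl, rfl, rfl⟩, rfl⟩, hq⟩ | ⟨⟨⟨rfl, rfl, rfl⟩, rfl⟩, hq⟩ | ⟨⟨⟨rfl, rfl, rfl⟩, rfl⟩, hq⟩ |
      ⟨⟨⟨rfl, rfl, rfl⟩, rfl⟩, hq⟩ | ⟨⟨⟨rfl, rfl, rfl⟩, rfl⟩, hq⟩
    · exact row_of (R.a6 (hF.trans hq)) fun T _ h => a6_of_l29 (inv_L h)
    · exact row_rk4 (hin (Or.inl hq)) le_rfl fun T _ h => rk4_l34 (inv_L h)
    · exact row_rk4 (hin (Or.inr (Or.inr hq))) (by norm_num) fun T _ h => rk4_l34 (inv_L h)
    · exact row_of (R.u33 (hF.trans hq)) fun T _ h => inv_U h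
    · exact row_rk4 (hin (Or.inl hq)) le_rfl fun T _ h => rk4_l42 (inv_L h)
    · exact row_rk4 (hin (Or.inr (Or.inr hq))) (by norm_num) fun T _ h => rk4_l42 (inv_L h)
    · obtain rfl := prime_of_pow (n := 1) hp Nat.prime_three hq hf
      exact row_own fun T _ h => own_u42 (inv_U h)
    · exact row_of (R.sz8 (hF.trans hq)) fun T _ h => inv_Sz h
  · intro n k hm
    simp only [alAF4, List.mem_cons, Prod.mk.injEq, List.not_mem_nil, or_false] at hm
    rcases hm with ⟨⟨rfl, rfl⟩, hq⟩ | ⟨⟨rfl, rfl⟩, hq⟩ | ⟨⟨rfl, rfl⟩, hq⟩ | ⟨⟨rfl, rfl⟩, hq⟩ | ⟨⟨rfl, rfl⟩, hq⟩ |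
      ⟨⟨rfl, rfl⟩, hq⟩ | ⟨⟨rfl, rfl⟩, hq⟩ | ⟨⟨rfl, rfl⟩, hq⟩
    · exact row_of (R.a6 (hF.trans hq)) fun T _ h => h
    · exact row_of (R.a7 (hF.trans hq)) fun T _ h => h
    · obtain rfl := prime_of_pow (n := 1) hp Nat.prime_two hq hf
      exact row_own fun T _ h => own_a8 h
    · exact row_rk4 (hin (Or.inl hq)) le_rfl fun T _ h => rk4_altN le_rfl h
    · obtain rfl := prime_of_pow (n := 2) hp Nat.prime_two hq hf
      exact row_own fun T _ h => own_a8 h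
    · exact row_rk4 (hin (Or.inr (Or.inr hq))) (by norm_num) fun T _ h => rk4_altN le_rfl h
    · exact row_rk4 (hin (Or.inl hq)) le_rfl fun T _ h => rk4_altN (by norm_num) h
    · exfalso
      have h3 : p ∣ 15 := hq ▸ dvd_pow_self p hf
      have h5 : 3 = p := (Nat.prime_dvd_prime_iff_eq Nat.prime_three hp).1
        (Nat.prime_three.dvd_of_dvd_pow (hq ▸ (by norm_num : 3 ∣ 15)))
      have h6 : 5 = p := (Nat.prime_dvd_prime_iff_eq Nat.prime_five hp).1
        (Nat.prime_five.dvd_of_dvd_pow (hq ▸ (by norm_num : 5 ∣ 15)))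
      omega
  · intro k hm
    simp only [alTF4, List.mem_cons, Prod.mk.injEq, List.not_mem_nil, or_false, true_and] at hm
    obtain ⟨rfl, hq⟩ := hm
    exact row_of (R.tits (hF.trans hq)) fun T _ h => h
  · intro t k hm
    simp only [List.mem_cons, Prod.mk.injEq, List.not_mem_nil, or_false] at hm
    have hJ : ∀ (T : Type) [Group T], IsSimpleGroup T → (∃ a b : T, a * b ≠ b * a) → IsKnownSimple' T →
        Nat.card T = 604800 → Spor.IsoJ2 T := fun T _ _ hn hK' hc =>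
      spor_name (x := (.j2, 604800)) (by decide) hK' (fun h => by
        obtain ⟨a, b, hab⟩ := hn
        exact hab (h a b)) hc
    have key : ∀ (H N : Subgroup ↥(Lie.chevF4.group F)) (T : Type) [Group T] (e : N ≃* (Fin 2 → T)), EPS H N e →
        Nat.card T = 604800 → Spor.IsoJ2 T := by
      intro H N T _ e h hc
      have hT : Finite T := finT e (by norm_num)
      exact hJ T h.simple h.nab (hK T h.simple) hc
    rcases hm with ⟨⟨rfl, rfl⟩, hq⟩ | ⟨⟨rfl, rfl⟩, hq⟩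
    · intro H N T _ e h hT _
      exact R.j2 (hF.trans hq) H N T e h (key H N T e h hT.2)
    · intro H N T _ e h hT _
      exact Rk4.eps_no (hin (Or.inr (Or.inl hq))) h (RkJ2.rk4_j2 (key H N T e h hT.2)) le_rfl

theorem eq_two {F : Type} [Field F] {p : ℕ} [hp : Fact p.Prime] [CharP F p] (h2 : (2 : F) = 0) : p = 2 := by
  have h3 : ((2 : ℕ) : F) = 0 := by exact_mod_cast h2
  rw [CharP.cast_eq_zero_iff F p] at h3
  exact (Nat.prime_dvd_prime_iff_eq hp.out Nat.prime_two).1 h3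

/-- **`G₂(q)`** -/
theorem crossk_g2 (hK : AllK) (A : AutData) (B : BdAll) {F : Type} [Field F] [Fintype F] (p : ℕ) [Fact p.Prime]
    [CharP F p] (h3 : 3 ≤ Fintype.card F) : CrossK p ↥(Lie.chevG2.group F) := by
  by_cases h2 : (2 : F) = 0
  swap
  · exact Cfsg.Agent.H783.EX.crossk_g2 h2 p
  obtain rfl := eq_two (p := p) h2
  obtain ⟨f, hF, hR⟩ := real_g2 2 F h3
  refine crossk_gen hK A B (D := 14) (Y := .G2) (m := 7) (by norm_num) (fth_g2 F) hR ?_
    (lieK_of_chkKF data (by decide) (by norm_num) chkK_g2) (by norm_num)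
    (altK_of_chkKAF data (by decide) (by norm_num) chkKA_g2) ?_
    (titsK_of_chkKTiF data (by decide) chkKTi_g2) spor_g2 ?_ ?_ ?_ ?_
  · intro H N T _ k e hk _ h ho
    exact absurd ho (by decide)
  · intro T _ n i hi he
    have := S2658.result 2 n i.range ⊥ (quot_bot hi he)
    split_ifs at this <;> omega
  · intro X l a k hm hl
    simp only [alKG2, List.mem_cons, Prod.mk.injEq, List.not_mem_nil, or_false] at hm
    rcases hm with ⟨⟨⟨rfl, rfl, rfl⟩, rfl⟩, hq⟩ | ⟨⟨⟨rfl, rfl, rfl⟩, rfl⟩, hq⟩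
    · exact row_own fun T _ h => own_l25 (inv_L h)
    · exact row_own fun T _ h => own_l27 (inv_L h)
  · intro n k hm
    simp only [alAG2, List.mem_cons, Prod.mk.injEq, List.not_mem_nil, or_false] at hm
    obtain ⟨⟨rfl, rfl⟩, hq⟩ := hm
    exact row_own fun T _ h => own_a5 h
  · intro k hm
    exact absurd hm List.not_mem_nil
  · intro t k hm
    exact absurd hm List.not_mem_nil

theorem spor_td4_8 : SporK .TD4 8 2 [] := by
  intro T _ _ k f g h hk hkD hR ho _ hB hd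
  exact (H631.EK.spor_td4 (H631.EK.card_mem h) (isPP hR) (dvd_pow_self 2 (by have := hR.hf; omega)) hk (by omega)
    (dn_td4 hR) hd hB).elim

/-- **`³D₄(q)`** -/
theorem crossk_td4 (hK : AllK) (A : AutData) (B : BdAll) {K : Type} [Field K] [Fintype K] (p : ℕ) [Fact p.Prime]
    [CharP K p] {q : ℕ} (hq3 : Fintype.card K = q ^ 3) (R : RowsTD4 K q)
    (h8 : p = 2 → ∃ (K' : Type) (_ : Field K') (_ : CharP K' 2), Fth 8 K' ↥(Lie.twistedD4 K q)) :
    CrossK p ↥(Lie.twistedD4 K q) := by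
  obtain ⟨f, hF, hR⟩ := real_td4 p K hq3
  have hf : f ≠ 0 := by have := hR.hf; omega
  by_cases h2 : (2 : K) = 0
  swap
  · have hp2 : p ≠ 2 := by
      rintro rfl
      exact h2 (by exact_mod_cast CharP.cast_eq_zero K 2)
    refine Cfsg.Agent.H783.EX.crossk_td4 ?_ hq3 h2 p
    rw [hF]
    exact ((Fact.out : p.Prime).odd_of_ne_two hp2).pow
  obtain rfl := eq_two (p := p) h2
  obtain ⟨K', _, _, h8⟩ := h8 rfl
  have hS : ∀ (T : Type) [Group T] (n : ℕ) (i : T →* ↥(Lie.twistedD4 K q)), Function.Injective i →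
      Nonempty (T ≃* alternatingGroup (Fin n)) → n ≤ 6 := by
    intro T _ n i hi he
    subst hF
    have := S2660.result 2 f (by omega) hq3 n i.range ⊥ (quot_bot hi he)
    split_ifs at this <;> omega
  refine crossk_gen hK A B (D := 8) (Y := .TD4) (m := 7) (by norm_num) h8 hR ?_
    (lieK_of_chkKF data (by decide) (by norm_num) chkK_td4_8) (by norm_num)
    (altK_of_chkKAF data (by decide) (by norm_num) chkKA_td4_8) ?_
    (titsK_of_chkKTiF data (by decide) chkKTi_td4_8) spor_td4_8 ?_ ?_ ?_ ?_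
  · intro H N T _ k e hk _ h ho
    exact absurd ho (by decide)
  · intro T _ n i hi he
    exact (hS T n i hi he).trans (by norm_num)
  · intro X l a k hm hl
    simp only [alKTD4e, List.mem_cons, Prod.mk.injEq, List.not_mem_nil, or_false] at hm
    rcases hm with ⟨⟨⟨rfl, rfl, rfl⟩, rfl⟩, hq⟩ | ⟨⟨⟨rfl, rfl, rfl⟩, rfl⟩, hq⟩
    · exact row_of (R.a6 (hF.trans hq)) fun T _ h => a6_of_l29 (inv_L h)
    · exact row_own fun T _ h => own_l27 (inv_L h)
  · intro n k hm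
    simp only [alATD4, List.mem_cons, Prod.mk.injEq, List.not_mem_nil, or_false] at hm
    rcases hm with ⟨⟨rfl, rfl⟩, hq⟩ | ⟨⟨rfl, rfl⟩, hq⟩
    · exact row_of (R.a6 (hF.trans hq)) fun T _ h => h
    · intro H N T _ e h hT _
      obtain ⟨φ, hφ⟩ := exists_factor e (by norm_num)
      have := hS T 7 φ hφ hT
      omega
  · intro k hm
    exact absurd hm List.not_mem_nil
  · intro t k hm
    exact absurd hm List.not_mem_nil

end Cfsg.Agent.H894.EK
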