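import Cfsg.Agent.H348.Inv.J2
import Cfsg.Agent.H783.EX.Rk16

/-!
# `J₂` contains an elementary abelian group of order 16 (S5745, CrossK; helper894)
-/

set_option autoImplicit false
set_option maxRecDepth 100000

namespace Cfsg.Agent.H894.EK.RkJ2

open Subgroup Equiv Cfsg.Agent.SporadicA.PermTab Cfsg.Agent.SporadicA.J2Data Cfsg.Agent.SporadicA.J2Hundred
open Cfsg.Agent.H348.Inv.PermW Cfsg.Agent.H348.Inv.J2 Cfsg.Agent.H587.NR Cfsg.Agent.H783.EX

section four

variable {G : Type*} [Group G]

/-- the homomorphism from the group of order two to an involution -/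
def ph (g : G) (h : g * g = 1) : Multiplicative (ZMod 2) →* G where
  toFun x := g ^ x.toAdd.val
  map_one' := by
    show g ^ (0 : ZMod 2).val = 1
    rw [ZMod.val_zero, pow_zero]
  map_mul' a b := by
    have key : ∀ a b : ZMod 2, g ^ (a + b).val = g ^ a.val * g ^ b.val := by
      intro a b
      have h0 : ∀ a : ZMod 2, a = 0 ∨ a = 1 := by decide
      rcases h0 a with rfl | rfl <;> rcases h0 b with rfl | rfl
      · show g ^ 0 = g ^ 0 * g ^ 0
        simp
      · show g ^ 1 = g ^ 0 * g ^ 1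
        simp
      · show g ^ 1 = g ^ 1 * g ^ 0
        simp
      · show g ^ 0 = g ^ 1 * g ^ 1
        simp [h]
    exact key _ _

theorem ph_apply (g : G) (h : g * g = 1) (x : Multiplicative (ZMod 2)) : ph g h x = g ^ x.toAdd.val := rfl

theorem comm_ph {g g' : G} (h : g * g = 1) (h' : g' * g' = 1) (hc : g * g' = g' * g) (x y : Multiplicative (ZMod 2)) :
    Commute (ph g h x) (ph g' h' y) := by
  rw [ph_apply, ph_apply]
  exact Commute.pow_pow hc _ _

/-- four commuting involutions with 15 nontrivial products -/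
theorem rk4_of_four (a b c d : G) (ha : a * a = 1) (hb : b * b = 1) (hc : c * c = 1) (hd : d * d = 1)
    (hab : a * b = b * a) (hac : a * c = c * a) (had : a * d = d * a) (hbc : b * c = c * b) (hbd : b * d = d * b)
    (hcd : c * d = d * c)
    (hn : ∀ i j k l : ℕ, i < 2 → j < 2 → k < 2 → l < 2 → a ^ i * (b ^ j * (c ^ k * d ^ l)) = 1 →
      i = 0 ∧ j = 0 ∧ k = 0 ∧ l = 0) : Rk4 G := by
  let f3 := MonoidHom.noncommCoprod (ph c hc) (ph d hd) (comm_ph hc hd hcd)
  let f2 := MonoidHom.noncommCoprod (ph b hb) f3 (fun x y => (comm_ph hb hc hbc x y.1).mul_right (comm_ph hb hd hbd x y.2))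
  let f1 := MonoidHom.noncommCoprod (ph a ha) f2 (fun x y => (comm_ph ha hb hab x y.1).mul_right
    ((comm_ph ha hc hac x y.2.1).mul_right (comm_ph ha hd had x y.2.2)))
  have hinj : Function.Injective f1 := by
    rw [injective_iff_map_eq_one]
    rintro ⟨i, j, k, l⟩ h
    have h1 : a ^ i.toAdd.val * (b ^ j.toAdd.val * (c ^ k.toAdd.val * d ^ l.toAdd.val)) = 1 := h
    obtain ⟨e1, e2, e3, e4⟩ := hn _ _ _ _ (ZMod.val_lt _) (ZMod.val_lt _) (ZMod.val_lt _) (ZMod.val_lt _) h1
    have key : ∀ x : Multiplicative (ZMod 2), x.toAdd.val = 0 → x = 1 := by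
      intro x hx
      exact Multiplicative.toAdd.injective ((ZMod.val_eq_zero _).1 hx)
    rw [key i e1, key j e2, key k e3, key l e4]
    rfl
  refine Rk4.of_hom (fun x => ?_) f1 hinj ?_
  · have key : ∀ x : Multiplicative (ZMod 2), x * x = 1 := by decide
    obtain ⟨i, j, k, l⟩ := x
    rw [Prod.mk_mul_mk, Prod.mk_mul_mk, Prod.mk_mul_mk, key, key, key, key]
    rfl
  · rw [Nat.card_prod, Nat.card_prod, Nat.card_prod, Nat.card_congr Multiplicative.toAdd, Nat.card_zmod]

end four

theorem chk_of_eq {v w : List L} (h : W.wd v = W.wd w) : chk 100 T v w = true := by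
  unfold chk
  rw [allB_iff]
  intro i hi
  have h1 := W.wd_apply v ⟨i, hi⟩
  have h2 := W.wd_apply w ⟨i, hi⟩
  rw [h] at h1
  rw [show act T v i = act T w i from h1.symm.trans h2]
  exact Nat.beq_refl _

def A : List L := [.a]
def B : List L := [.c]
def C : List L := [.d, .e, .c, .d, .c, .e, .d]
def D : List L := [.b, .c, .d, .e, .a, .b, .a, .b, .c, .d, .c, .b, .a, .b, .a, .e, .d, .c, .b]

theorem ne_chk : ((List.range 2).all fun i => (List.range 2).all fun j => (List.range 2).all fun k => (List.range 2).all fun l =>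
    (i == 0 && j == 0 && k == 0 && l == 0) || !(chk 100 T (pw A i ++ (pw B j ++ (pw C k ++ pw D l))) [])) = true := by
  decide +kernel

theorem eq_of {v w : List L} (h : chk 100 T v w = true) : W.wd v = W.wd w := W.eq_of_chk h

theorem sq_of {v : List L} (h : chk 100 T (v ++ v) [] = true) : W.wd v * W.wd v = 1 := by
  rw [← W.wd_append, eq_of h, W.wd_nil]

theorem comm_of {v w : List L} (h : chk 100 T (v ++ w) (w ++ v) = true) : W.wd v * W.wd w = W.wd w * W.wd v := by
  rw [← W.wd_append, eq_of h, W.wd_append]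

theorem rk4_G : Rk4 G := by
  refine rk4_of_four (W.wd A) (W.wd B) (W.wd C) (W.wd D) (sq_of (by decide +kernel)) (sq_of (by decide +kernel))
    (sq_of (by decide +kernel)) (sq_of (by decide +kernel)) (comm_of (by decide +kernel)) (comm_of (by decide +kernel))
    (comm_of (by decide +kernel)) (comm_of (by decide +kernel)) (comm_of (by decide +kernel)) (comm_of (by decide +kernel)) ?_
  intro i j k l hi hj hk hl h
  rw [← W.wd_pw, ← W.wd_pw, ← W.wd_pw, ← W.wd_pw, ← W.wd_append, ← W.wd_append, ← W.wd_append, ← W.wd_nil] at h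
  have h1 := chk_of_eq h
  have h2 := ne_chk
  rw [List.all_eq_true] at h2
  have h3 := h2 i (List.mem_range.2 hi)
  rw [List.all_eq_true] at h3
  have h4 := h3 j (List.mem_range.2 hj)
  rw [List.all_eq_true] at h4
  have h5 := h4 k (List.mem_range.2 hk)
  rw [List.all_eq_true] at h5
  have h6 := h5 l (List.mem_range.2 hl)
  rw [h1] at h6
  simpa [and_assoc] using h6

theorem isoG : Cfsg.Spor.IsoJ2 G := by
  obtain ⟨f⟩ := Cfsg.Agent.J2.HundredGens.J2_iso Cfsg.Agent.S1619.result.2.2.2
  exact ⟨f.symm⟩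

/-- **`J₂` has 2-rank at least four** -/
theorem rk4_j2 {T : Type*} [Group T] (h : Cfsg.Spor.IsoJ2 T) : Rk4 T := by
  obtain ⟨e⟩ := h
  obtain ⟨f⟩ := isoG
  exact Rk4.congr (e.trans f.symm) rk4_G

end Cfsg.Agent.H894.EK.RkJ2
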