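import Cfsg.Agent.H894.EK.Gen
import Cfsg.Agent.H902.Nice
import Cfsg.Agent.H783.EX.RkAlt
import Cfsg.Agent.H783.EX.Rk16
import Cfsg.Agent.H894.EK.RkJ2

/-!
# S5745, CrossK: names of small groups that are of Lie type in the own characteristic; names of 2-rank `≥ 4` (helper894)
-/

set_option autoImplicit false

namespace Cfsg.Agent.H894.EK

open Cfsg Cfsg.Agent.OrdDiv Cfsg.Agent.H902 Cfsg.Agent.H902.Names
open Cfsg.Agent.H209.EPX Cfsg.Agent.H542.EPX Cfsg.Agent.H783.EX Cfsg.Agent.H357.EP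

variable {T : Type} [Group T]

/-! ### inversion of names -/

theorem inv_L {n l a : ℕ} (h : NmL (.L n) l a T) : OrdDiv.Real (.psl n (l ^ a)) T := by
  obtain ⟨g, hg, hT⟩ := h
  cases hg
  exact hT

theorem inv_U {n l a : ℕ} (h : NmL (.U n) l a T) : OrdDiv.Real (.psu n (l ^ a)) T := by
  obtain ⟨g, hg, hT⟩ := h
  cases hg
  exact hT

theorem inv_C {n l a : ℕ} (h : NmL (.C n) l a T) (ho : ¬ (3 ≤ n ∧ Odd (l ^ a))) : OrdDiv.Real (.psp n (l ^ a)) T := by
  obtain ⟨g, hg, hT⟩ := h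
  cases hg with
  | psp => exact hT
  | oodd _ _ _ h1 h2 => exact absurd ⟨h1, h2⟩ ho

theorem inv_Sz {l a : ℕ} (h : NmL .Sz l a T) : OrdDiv.Real (.sz (l ^ a)) T := by
  obtain ⟨g, hg, hT⟩ := h
  cases hg
  exact hT

/-! ### own characteristic -/

theorem own_a5 (h : OrdDiv.Real (.alt 5) T) : IsLieTypeChar 2 T := by
  obtain ⟨e⟩ := h
  have : Fact (Nat.Prime 2) := ⟨Nat.prime_two⟩
  have : CharP (GaloisField 2 2) 2 := inferInstance
  letI : Fintype (GaloisField 2 2) := Fintype.ofFinite _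
  have hc : Fintype.card (GaloisField 2 2) = 4 := by
    rw [← Nat.card_eq_fintype_card, GaloisField.card 2 2 (by norm_num)]; norm_num
  obtain ⟨f⟩ := S0252.result hc
  exact Or.inl ⟨GaloisField 2 2, inferInstance, inferInstance, inferInstance, 2, le_rfl, fun _ => hc.ge, ⟨e.trans f.symm⟩⟩

theorem own_l25 (h : OrdDiv.Real (.psl 2 5) T) : IsLieTypeChar 2 T := by
  obtain ⟨F, _, _, hF, ⟨e⟩⟩ := h
  obtain ⟨f⟩ := S0253.result hF
  exact own_a5 ⟨e.trans f⟩

theorem own_a8 (h : OrdDiv.Real (.alt 8) T) : IsLieTypeChar 2 T := by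
  obtain ⟨e⟩ := h
  have : Fact (Nat.Prime 2) := ⟨Nat.prime_two⟩
  obtain ⟨f⟩ := S0256.result (F := ZMod 2) (ZMod.card 2)
  exact Or.inl ⟨ZMod 2, inferInstance, inferInstance, inferInstance, 4, by norm_num, fun h => absurd h (by norm_num),
    ⟨e.trans f.symm⟩⟩

theorem own_l27 (h : OrdDiv.Real (.psl 2 7) T) : IsLieTypeChar 2 T := by
  obtain ⟨F, _, _, hF, ⟨e⟩⟩ := h
  have : Fact (Nat.Prime 2) := ⟨Nat.prime_two⟩
  obtain ⟨f⟩ := S0255.result (F := F) (K := ZMod 2) hF (ZMod.card 2)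
  exact Or.inl ⟨ZMod 2, inferInstance, inferInstance, inferInstance, 3, by norm_num, fun h => absurd h (by norm_num),
    ⟨e.trans f⟩⟩

theorem own_u42 (h : OrdDiv.Real (.psu 4 2) T) : IsLieTypeChar 3 T := by
  obtain ⟨F, _, _, hF, ⟨e⟩⟩ := h
  have : Fact (Nat.Prime 3) := ⟨Nat.prime_three⟩
  obtain ⟨f⟩ := S0822.result (F := F) (K := ZMod 3) hF (ZMod.card 3)
  exact Or.inr (Or.inl ⟨ZMod 3, inferInstance, inferInstance, inferInstance, 2, le_rfl,
    fun _ => by rw [ZMod.card], ⟨e.trans f⟩⟩)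

theorem own_sp43 (h : OrdDiv.Real (.psp 2 3) T) : IsLieTypeChar 2 T := by
  obtain ⟨K, _, _, hK, ⟨e⟩⟩ := h
  have : Fact (Nat.Prime 2) := ⟨Nat.prime_two⟩
  letI : Fintype (GaloisField 2 2) := Fintype.ofFinite _
  have hc : Fintype.card (GaloisField 2 2) = 4 := by
    rw [← Nat.card_eq_fintype_card, GaloisField.card 2 2 (by norm_num)]; norm_num
  obtain ⟨f⟩ := S0822.result (F := GaloisField 2 2) (K := K) hc hK
  exact Or.inr (Or.inr (Or.inl ⟨GaloisField 2 2, inferInstance, inferInstance, inferInstance, 4, 2, hc, by norm_num,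
    by norm_num, ⟨e.trans f.symm⟩⟩))

/-- `L₂(9) ≅ A₆` -/
theorem a6_of_l29 (h : OrdDiv.Real (.psl 2 9) T) : OrdDiv.Real (.alt 6) T := by
  obtain ⟨F, _, _, hF, ⟨e⟩⟩ := h
  obtain ⟨f⟩ := S0254.result hF
  exact ⟨e.trans f⟩

/-! ### 2-rank at least 4 -/

theorem rk4_l34 (h : OrdDiv.Real (.psl 3 4) T) : Rk4 T := by
  obtain ⟨F, _, _, hF, ⟨e⟩⟩ := h
  have : Fact (Nat.Prime 2) := ⟨Nat.prime_two⟩
  have : CharP F 2 := charP_of_card_eq_prime_pow (f := 2) (by rw [hF]; norm_num)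
  exact (rk4_psl3 (by rw [Nat.card_eq_fintype_card, hF])).congr e

theorem rk4_l42 (h : OrdDiv.Real (.psl 4 2) T) : Rk4 T := by
  obtain ⟨F, _, _, hF, ⟨e⟩⟩ := h
  have : Fact (Nat.Prime 2) := ⟨Nat.prime_two⟩
  have : CharP F 2 := charP_of_card_eq_prime_pow (f := 1) (by rw [hF, pow_one])
  exact rk4_psl4.congr e

theorem rk4_sp62 (h : OrdDiv.Real (.psp 3 2) T) : Rk4 T := by
  obtain ⟨F, _, _, hF, ⟨e⟩⟩ := h
  have : Fact (Nat.Prime 2) := ⟨Nat.prime_two⟩
  have : CharP F 2 := charP_of_card_eq_prime_pow (f := 1) (by rw [hF, pow_one])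
  exact (rk4_psp le_rfl).congr e

theorem rk4_altN {n : ℕ} (hn : 8 ≤ n) (h : OrdDiv.Real (.alt n) T) : Rk4 T := by
  obtain ⟨e⟩ := h
  exact (rk4_alt hn).congr e

/-- sporadic groups from the order -/
theorem spor_name {x : Grp × ℕ} (hx : x ∈ spor) (hK : IsKnownSimple' T) (hna : ¬ ∀ a b : T, a * b = b * a)
    (hc : Nat.card T = x.2) : OrdDiv.Real x.1 T := spor_real table hK hna hx hc

/-- a row killed by the 2-rank -/
theorem row_rk4 {P : ∀ (T : Type) [Group T], Prop} {p : ℕ} {G : Type} [Group G] [Finite G] (hG : InE6 G) {k : ℕ}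
    (hk : 2 ≤ k) (hP : ∀ (T : Type) [Group T], P T → Rk4 T) : RowX P p G k :=
  fun _ _ T _ _ h hT _ => Rk4.eps_no hG h (hP T hT) hk

/-- a row killed by the own characteristic -/
theorem row_own {P : ∀ (T : Type) [Group T], Prop} {p : ℕ} {G : Type} [Group G] {k : ℕ}
    (hP : ∀ (T : Type) [Group T], P T → IsLieTypeChar p T) : RowX P p G k :=
  fun _ _ T _ _ _ hT hL => hL (hP T hT)

theorem row_of {P Q : ∀ (T : Type) [Group T], Prop} {p : ℕ} {G : Type} [Group G] {k : ℕ} (h : Row Q G k)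
    (hP : ∀ (T : Type) [Group T], P T → Q T) : RowX P p G k :=
  fun H N T _ e hE hT _ => h H N T e hE (hP T hT)

end Cfsg.Agent.H894.EK
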